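import Groth.Agent.CAlg6.GrpWordSub
import Groth.Agent.CAlg6.GenConn
import Groth.Agent.AlgGrp79.SepDense
import Groth.Agent.Grp57.Component
import Groth.Agent.AlgGrp79.ProdDense
import Groth.Agent.Var76.FibreBound
import Mathlib.AlgebraicGeometry.Group.Smooth

/-!
The smooth connected subgroup generated by a morphism from a smooth connected group.
-/

set_option autoImplicit false
set_option linter.unusedSectionVars false
set_option linter.style.haveILetI false
universe u

open CategoryTheory CategoryTheory.Limits MonoidalCategory CartesianMonoidalCategory MonObj GrpObj AlgebraicGeometry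

noncomputable section

namespace Groth.Agent.Prim37

open Groth.Agent.CAlg6.GrpWord

variable {k : Type u} [Field k]

theorem irreducibleSpace_grp (G : Over (Spec (CommRingCat.of k))) [GrpObj G] [LocallyOfFiniteType G.hom]
    [ConnectedSpace G.left] : IrreducibleSpace G.left := by
  have hirr := (Grp57.connectedComponent_unit G).1
  rw [PreconnectedSpace.connectedComponent_eq_univ] at hirr
  exact { isPreirreducible_univ := hirr.2, toNonempty := inferInstance }

theorem smooth_tensor (X Y : Over (Spec (CommRingCat.of k))) [hX : Smooth X.hom] [Smooth Y.hom] :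
    Smooth (X ⊗ Y).hom := by
  show Smooth (pullback.fst X.hom Y.hom ≫ X.hom)
  exact MorphismProperty.comp_mem _ _ _ (MorphismProperty.pullback_fst _ _ ‹_›) hX

theorem connectedSpace_tensor (X Y : Over (Spec (CommRingCat.of k))) [GrpObj Y] [ConnectedSpace X.left]
    [ConnectedSpace Y.left] [Smooth Y.hom] : ConnectedSpace (X ⊗ Y).left := by
  haveI := CAlg6.GenConn.geometricallyConnected_grp Y
  exact inferInstanceAs (ConnectedSpace ↥(pullback X.hom Y.hom))

/-- Powers of a group object are group objects. -/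
@[reducible] def powGrp (X : Over (Spec (CommRingCat.of k))) [GrpObj X] : ∀ n, GrpObj (pow X n)
  | 0 => inferInstanceAs (GrpObj (𝟙_ (Over (Spec (CommRingCat.of k)))))
  | n + 1 => @GrpObj.tensorObj.instTensorObj _ _ _ _ X (pow X n) _ (powGrp X n)

theorem connectedSpace_one : ConnectedSpace (𝟙_ (Over (Spec (CommRingCat.of k)))).left := by
  show ConnectedSpace (PrimeSpectrum k)
  infer_instance

theorem smooth_one : Smooth (𝟙_ (Over (Spec (CommRingCat.of k)))).hom :=
  inferInstanceAs (Smooth (𝟙 (Spec (CommRingCat.of k))))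

theorem smooth_connected_pow (X : Over (Spec (CommRingCat.of k))) [GrpObj X] [Smooth X.hom] [ConnectedSpace X.left] :
    ∀ n, Smooth (pow X n).hom ∧ ConnectedSpace (pow X n).left
  | 0 => ⟨smooth_one, connectedSpace_one⟩
  | n + 1 => by
    obtain ⟨h1, h2⟩ := smooth_connected_pow X n
    haveI := powGrp X n
    exact ⟨smooth_tensor X (pow X n), connectedSpace_tensor X (pow X n)⟩

/-- The smooth connected closed subgroup generated by a morphism from a smooth connected group. -/
theorem exists_generated_grp {G : Over (Spec (CommRingCat.of k))} [GrpObj G] [LocallyOfFiniteType G.hom] [QuasiCompact G.hom]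
    (Y : Over (Spec (CommRingCat.of k))) [GrpObj Y] [Smooth Y.hom] [QuasiCompact Y.hom] [ConnectedSpace Y.left]
    (f : Y ⟶ G) (hf : η[Y] ≫ f = η[G]) :
    ∃ (K : Over (Spec (CommRingCat.of k))) (_ : GrpObj K) (i : K ⟶ G), IsMonHom i ∧ IsClosedImmersion i.left ∧
      Smooth K.hom ∧ ConnectedSpace K.left ∧ (∃ f' : Y ⟶ K, f' ≫ i = f) ∧
      ∃ (P : Over (Spec (CommRingCat.of k))) (g : P ⟶ K) (n : ℕ), IsReduced K.left ∧ IsDominant g.left ∧
        g ≫ i ∈ Wd f P n := by
  classical
  let X2 := Y ⊗ Y
  haveI : Smooth X2.hom := smooth_tensor Y Y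
  haveI : ConnectedSpace X2.left := connectedSpace_tensor Y Y
  haveI : QuasiCompact X2.hom := qc_tensor Y Y
  let P : ℕ → Over (Spec (CommRingCat.of k)) := fun n => pow X2 n
  haveI : ∀ n, GrpObj (P n) := fun n => powGrp X2 n
  haveI : ∀ n, Smooth (P n).hom := fun n => (smooth_connected_pow X2 n).1
  haveI : ∀ n, ConnectedSpace (P n).left := fun n => (smooth_connected_pow X2 n).2
  haveI : ∀ n, IrreducibleSpace (P n).left := fun n => irreducibleSpace_grp (P n)
  haveI : ∀ n, QuasiCompact (P n).hom := fun n => qc_pow X2 n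
  haveI : ∀ n, IsReduced (P n).left := fun n => AlgGrp79.isReduced_of_smooth (P n).hom
  haveI : IsReduced Y.left := AlgGrp79.isReduced_of_smooth Y.hom
  let w : ∀ n, P n ⟶ G := pw f
  haveI : ∀ n, QuasiCompact (w n).left := fun n => qc_left (w n)
  let x₀ : ∀ T : Over (Spec (CommRingCat.of k)), T ⟶ Y := fun T => toUnit T ≫ η[Y]
  have hx₀ : ∀ T, x₀ T ≫ f = 1 := fun T => by
    rw [Category.assoc, hf, Hom.one_def]
  let gen : ℕ → G.left := fun n => (w n).left (genericPoint (P n).left)
  let Z : ℕ → Set G.left := fun n => closure {gen n}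
  have hZr : ∀ n, closure (Set.range (w n).left) = Z n := fun n => by
    refine le_antisymm (closure_minimal ?_ isClosed_closure) (closure_mono (Set.singleton_subset_iff.2 ⟨_, rfl⟩))
    rintro _ ⟨q, rfl⟩
    exact specializes_iff_mem_closure.1 (((genericPoint_spec (P n).left).specializes trivial).map (w n).left.continuous)
  have hmono : ∀ n, gen (n + 1) ⤳ gen n := fun n => by
    rw [specializes_iff_mem_closure, show closure {gen (n + 1)} = Z (n + 1) from rfl, ← hZr]
    refine subset_closure ?_
    let c : P n ⟶ P (n + 1) := lift (lift (x₀ _) (x₀ _)) (𝟙 _)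
    have hc : c ≫ w (n + 1) = w n := by
      show lift (lift (x₀ _) (x₀ _)) (𝟙 _) ≫ ((fst _ _ ≫ dmap f) * (snd _ _ ≫ pw f n)) = pw f n
      rw [MonObj.comp_mul, lift_fst_assoc, lift_snd_assoc, Category.id_comp, dmap, MonObj.comp_mul, GrpObj.comp_inv,
        lift_fst_assoc, lift_snd_assoc, hx₀, inv_one, _root_.one_mul, _root_.one_mul]
    exact ⟨c.left (genericPoint (P n).left), by rw [← Scheme.Hom.comp_apply, ← Over.comp_left, hc]⟩
  have hmono' : ∀ n m, n ≤ m → gen m ⤳ gen n := by
    intro n m h
    induction h with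
    | refl => exact specializes_rfl
    | step _ ih => exact (hmono _).trans ih
  haveI := Var76.FibreBound.noetherianSpace G.hom
  have hb : BddAbove (Set.range fun n => WC97.tdegN G.hom (gen n)) := by
    obtain ⟨z, -, hz⟩ := @Var76.FibreBound.exists_tdegN_eq_dim k _ G.left G.hom _ ⟨gen 0⟩ _
    refine ⟨WC97.tdegN G.hom z, ?_⟩
    rintro _ ⟨n, rfl⟩
    exact_mod_cast (Var76.FibreBound.tdegN_le_dim G.hom (gen n)).trans hz.le
  obtain ⟨N, hN⟩ := Nat.sSup_mem (Set.range_nonempty _) hb
  simp only at hN
  have hstab : ∀ n, Set.range (w n).left ⊆ Z N := fun n => by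
    have h1 := hmono' N (max N n) (le_max_left _ _)
    have h2 : gen (max N n) = gen N :=
      Var76.FibreBound.eq_of_tdegN_le G.hom h1 (hN ▸ le_csSup hb ⟨_, rfl⟩)
    refine subset_closure.trans ((hZr n).le.trans ?_)
    exact closure_minimal (Set.singleton_subset_iff.2 (specializes_iff_mem_closure.1 (h2 ▸ hmono' n (max N n) (le_max_right _ _)))) isClosed_closure
  have hwd : ∀ (T : Over (Spec (CommRingCat.of k))) (m : ℕ) (z : T ⟶ G), z ∈ Wd f T m → Set.range z.left ⊆ Z N :=
    fun T m z hz => by
      obtain ⟨s, hs⟩ := exists_pw_lift f (x₀ T) (hx₀ T) m z hz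
      rintro _ ⟨q, rfl⟩
      refine hstab m ⟨s.left q, ?_⟩
      rw [← hs]; rfl
  haveI : LocallyOfFiniteType (P N ⊗ P N).hom := lft_tensor (P N) (P N)
  haveI : Smooth (P N ⊗ P N).hom := smooth_tensor (P N) (P N)
  haveI : IsReduced (P N ⊗ P N).left := AlgGrp79.isReduced_of_smooth (P N ⊗ P N).hom
  have hw := pw_wd f N
  obtain ⟨K, hK, i, hi, hci, hKred, hKr, hKgr⟩ := exists_subgroup_closure' (w N)
    (by rw [hZr]; exact hwd _ 0 1 (wd_zero _))
    (by rw [hZr]; exact hwd _ _ _ (wd_mul (wd_inv (wd_comp _ hw)) (wd_comp _ hw)))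
  haveI := hK
  haveI := hci
  haveI := hKred
  haveI : LocallyOfFiniteType K.hom := by rw [← Over.w i]; infer_instance
  haveI : GeometricallyReduced K.hom := hKgr (AlgGrp79.geometricallyReduced_of_smooth (P N).hom)
  haveI : Mono i := Over.mono_of_mono_left i
  obtain ⟨g, hg⟩ := AlgGrp79.exists_lift_of_range_subset i (w N) (by rw [hKr]; exact subset_closure)
  obtain ⟨f', hf'⟩ := AlgGrp79.exists_lift_of_range_subset i f (by
    rw [hKr, hZr]
    exact hwd Y 1 f (by simpa using wd_of (f := f) (𝟙 Y)))
  have hdense : DenseRange g.left := by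
    intro x
    have h1 : i.left x ∈ closure (Set.range (w N).left) := hKr ▸ ⟨x, rfl⟩
    have h2 : Set.range (w N).left = i.left '' Set.range g.left := by
      rw [← Set.range_comp, ← hg]; rfl
    rw [h2, i.left.isClosedEmbedding.closure_image_eq] at h1
    obtain ⟨x', hx', he⟩ := h1
    rwa [i.left.isClosedEmbedding.injective he] at hx'
  haveI : IrreducibleSpace K.left := by
    have h := ((IrreducibleSpace.isIrreducible_univ (P N).left).image _ g.left.continuous.continuousOn).closure
    rw [Set.image_univ, hdense.closure_range] at h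
    exact { isPreirreducible_univ := h.2, toNonempty := ⟨h.1.some⟩ }
  haveI : GrpObj (Over.mk K.hom) := hK
  exact ⟨K, hK, i, hi, hci, smooth_of_grpObj K.hom, inferInstance, ⟨f', hf'⟩, P N, g, 2 * N, hKred, ⟨hdense⟩,
    hg ▸ hw⟩

end Groth.Agent.Prim37
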